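import Mathlib

/-!
# Normalisations dominated by smooth algebras are unramified
-/

set_option autoImplicit false
set_option linter.style.haveILetI false
universe u
open IsLocalRing TensorProduct

namespace Groth.Agent.NeronEtLib

/-- If a discrete valuation ring over a local ring is dominated by a local domain with geometrically reduced
closed fibre then it is unramified. -/
theorem formallyUnramified_of_dominated (R S C : Type u) [CommRing R] [IsLocalRing R] [CommRing S] [IsDomain S]
    [IsDiscreteValuationRing S] [CommRing C] [IsLocalRing C] [IsDomain C] [IsNoetherianRing C]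
    [Algebra R S] [Algebra R C] [Algebra S C] [IsScalarTower R S C] [IsLocalHom (algebraMap R S)]
    [IsLocalHom (algebraMap S C)] (hinj : Function.Injective (algebraMap S C))
    [Algebra.EssFiniteType R S] [Module.Finite (ResidueField R) (ResidueField S)]
    (hne : (maximalIdeal R).map (algebraMap R S) ≠ ⊥)
    (hred : IsReduced (AlgebraicClosure (ResidueField R) ⊗[R] C)) :
    Algebra.FormallyUnramified R S := by
  let k := ResidueField R
  let Ω := AlgebraicClosure k
  let E := k ⊗[R] C
  haveI : IsReduced (Ω ⊗[k] E) :=
    isReduced_of_injective (Algebra.TensorProduct.cancelBaseChange R k Ω Ω C)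
      (AlgEquiv.injective _)
  haveI : Algebra.IsGeometricallyReduced k E := (Algebra.isGeometricallyReduced_field_iff k E).2 inferInstance
  haveI : IsReduced E := Algebra.isReduced_of_isGeometricallyReduced k
  let q : C →+* E := (Algebra.TensorProduct.includeRight : C →ₐ[R] E).toRingHom
  have hq : RingHom.ker q = (maximalIdeal R).map (algebraMap R C) := by
    let e := (Algebra.TensorProduct.quotIdealMapEquivQuotTensor C (maximalIdeal R))
    ext c
    rw [RingHom.mem_ker, ← Ideal.Quotient.eq_zero_iff_mem, ← map_eq_zero_iff _ e.injective]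
    rw [Algebra.TensorProduct.quotIdealMapEquivQuotTensor_mk]
    rfl
  let m := maximalIdeal S
  let J := m.map (algebraMap S C)
  obtain ⟨e, he⟩ : ∃ e : ℕ, (maximalIdeal R).map (algebraMap R S) = m ^ e := by
    obtain ⟨π, hπ⟩ := IsDiscreteValuationRing.exists_irreducible S
    obtain ⟨n, hn⟩ := IsDiscreteValuationRing.ideal_eq_span_pow_irreducible hne hπ
    refine ⟨n, ?_⟩
    rw [hn]
    simp only [m]
    rw [hπ.maximalIdeal_eq, Ideal.span_singleton_pow]
  have hmC : (maximalIdeal R).map (algebraMap R C) = J ^ e := by
    rw [IsScalarTower.algebraMap_eq R S C, ← Ideal.map_map, he, Ideal.map_pow]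
  have he0 : e ≠ 0 := fun h => by
    rw [h, pow_zero, Ideal.one_eq_top] at he
    exact (maximalIdeal.isMaximal S).ne_top (top_le_iff.1 (he ▸ Ideal.map_le_iff_le_comap.2 fun x hx =>
      map_nonunit (algebraMap R S) x hx))
  have hnil : ∀ x ∈ m, q (algebraMap S C x) = 0 := by
    intro x hx
    refine eq_zero_of_pow_eq_zero (n := e) ?_
    rw [← map_pow, ← map_pow, ← RingHom.mem_ker, hq, hmC, map_pow]
    exact Ideal.pow_mem_pow (Ideal.mem_map_of_mem _ hx) e
  have hJ : J ≤ J ^ e := Ideal.map_le_iff_le_comap.2 fun x hx => by
    rw [Ideal.mem_comap, ← hmC, ← hq, RingHom.mem_ker]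
    exact hnil x hx
  have he1 : e = 1 := by
    by_contra h1
    have h2 : J ≤ J • J := by
      refine hJ.trans ?_
      rw [smul_eq_mul, ← pow_two]
      exact Ideal.pow_le_pow_right (by omega)
    have hJm : J ≤ maximalIdeal C := Ideal.map_le_iff_le_comap.2 fun x hx => map_nonunit (algebraMap S C) x hx
    have hbot : J = ⊥ := Submodule.eq_bot_of_le_smul_of_le_jacobson_bot J J (IsNoetherian.noetherian J) h2
      (hJm.trans (maximalIdeal_le_jacobson ⊥))
    rw [Ideal.map_eq_bot_iff_of_injective hinj] at hbot
    exact IsDiscreteValuationRing.not_a_field S hbot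
  rw [he1, pow_one] at he
  let φ : S →ₐ[R] E := (Algebra.TensorProduct.includeRight : C →ₐ[R] E).comp (IsScalarTower.toAlgHom R S C)
  let ψ : ResidueField S →+* E := Ideal.Quotient.lift m φ.toRingHom fun x hx => hnil x hx
  let ψk : ResidueField S →ₐ[k] E :=
    { ψ with
      commutes' := fun c => by
        obtain ⟨r, rfl⟩ := Ideal.Quotient.mk_surjective c
        show φ (algebraMap R S r) = _
        rw [φ.commutes]
        rfl }
  haveI : Nontrivial E := by
    refine ⟨1, 0, fun h => ?_⟩
    have h1 : (1 : C) ∈ RingHom.ker q := by rw [RingHom.mem_ker, map_one]; exact h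
    rw [hq, ← Ideal.eq_top_iff_one] at h1
    exact (maximalIdeal.isMaximal C).ne_top (top_le_iff.1 (h1 ▸ Ideal.map_le_iff_le_comap.2 fun x hx => by
      rw [Ideal.mem_comap, IsScalarTower.algebraMap_apply R S C]
      exact map_nonunit (algebraMap S C) _ (map_nonunit (algebraMap R S) x hx)))
  haveI : Algebra.IsGeometricallyReduced k (ResidueField S) :=
    Algebra.IsGeometricallyReduced.of_injective ψk (RingHom.injective ψ)
  haveI : Algebra.IsSeparable k (ResidueField S) := by
    haveI : IsReduced (Ω ⊗[k] ResidueField S) := inferInstance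
    haveI : Algebra.Etale Ω (Ω ⊗[k] ResidueField S) := by
      haveI : Algebra.FormallyUnramified Ω (Ω ⊗[k] ResidueField S) := by
        haveI : IsArtinianRing (Ω ⊗[k] ResidueField S) := isArtinian_of_tower Ω inferInstance
        let e' := IsArtinianRing.equivPi (Ω ⊗[k] ResidueField S)
        haveI : ∀ I : MaximalSpectrum (Ω ⊗[k] ResidueField S),
            Algebra.FormallyUnramified Ω ((Ω ⊗[k] ResidueField S) ⧸ I.asIdeal) := fun I => by
          letI := Ideal.Quotient.field I.asIdeal
          haveI : Module.Finite Ω ((Ω ⊗[k] ResidueField S) ⧸ I.asIdeal) :=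
            Module.Finite.of_surjective (Ideal.Quotient.mkₐ Ω I.asIdeal).toLinearMap Ideal.Quotient.mk_surjective
          exact Algebra.FormallyUnramified.of_surjective (Algebra.ofId Ω _)
            (IsAlgClosed.algebraMap_bijective_of_isIntegral (k := Ω)).2
        let eA : (Ω ⊗[k] ResidueField S) ≃ₐ[Ω] Π I : MaximalSpectrum (Ω ⊗[k] ResidueField S),
            (Ω ⊗[k] ResidueField S) ⧸ I.asIdeal :=
          AlgEquiv.ofRingEquiv (f := e') (fun _ => rfl)
        exact Algebra.FormallyUnramified.of_equiv eA.symm
      haveI : Algebra.FinitePresentation Ω (Ω ⊗[k] ResidueField S) :=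
        Algebra.FinitePresentation.of_finiteType.1 inferInstance
      haveI := (Algebra.FormallyEtale.iff_formallyUnramified_of_field (K := Ω) (A := Ω ⊗[k] ResidueField S)).2 inferInstance
      exact ⟨inferInstance, inferInstance⟩
    haveI : Algebra.Etale k (ResidueField S) := Algebra.Etale.of_etale_tensorProduct_of_faithfullyFlat Ω
    exact (Algebra.FormallyEtale.iff_isSeparable k (ResidueField S)).1 inferInstance
  exact Algebra.FormallyUnramified.of_map_maximalIdeal (by simpa using he)

end Groth.Agent.NeronEtLib
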