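import Mathlib
import Groth.Agent.NeronEtLib.Unram
import Groth.Agent.RegHomLib.Basic
import Groth.Agent.PurityLib.Normal
import Groth.Agent.ASp.PropDescend

/-!
# The normalisation in an étale algebra is étale at the image of a smooth scheme
-/

set_option autoImplicit false
set_option linter.style.haveILetI false
set_option maxHeartbeats 1000000
universe u
open IsLocalRing TensorProduct AlgebraicGeometry CategoryTheory

namespace Groth.Agent.NeronEtLib

theorem isReduced_of_smooth (k X : Type u) [CommRing k] [IsReduced k] [CommRing X] [Algebra k X]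
    [Algebra.Smooth k X] : IsReduced X := by
  haveI : Smooth (Spec.map (CommRingCat.ofHom (algebraMap k X))) :=
    HasRingHomProperty.Spec_iff.mpr (RingHom.smooth_algebraMap.mpr inferInstance)
  haveI : AlgebraicGeometry.IsReduced (Spec (CommRingCat.of X)) :=
    ASp.isReduced_of_smooth (Spec.map (CommRingCat.ofHom (algebraMap k X)))
  exact (affine_isReduced_iff (CommRingCat.of X)).mp inferInstance

theorem isIntegrallyClosed_of_smooth (R S : Type u) [CommRing R] [IsRegularRing R] [CommRing S] [IsDomain S]
    [Algebra R S] [Algebra.Smooth R S] : IsIntegrallyClosed S := by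
  haveI := RegHomLib.isRegularRing_of_smooth R S
  exact IsIntegrallyClosed.of_localization_maximal fun p _ _ =>
    (PurityLib.isIntegrallyClosed_of_regular (Localization.AtPrime p)).2

attribute [local instance] Algebra.TensorProduct.rightAlgebra in
theorem isReduced_baseChange_atPrime (R Rp Ω C₀ : Type u) [CommRing R] [CommRing Rp] [Field Ω] [CommRing C₀]
    [Algebra R Rp] (p : Ideal R) [p.IsPrime] [IsLocalization.AtPrime Rp p] [Algebra R C₀] [Algebra.Smooth R C₀]
    [Algebra R Ω] [Algebra Rp Ω] [IsScalarTower R Rp Ω]
    (Q : Ideal C₀) [Q.IsPrime] [Algebra Rp (Localization.AtPrime Q)]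
    [IsScalarTower R Rp (Localization.AtPrime Q)] :
    IsReduced (Ω ⊗[Rp] Localization.AtPrime Q) := by
  let C := Localization.AtPrime Q
  haveI : IsReduced (Ω ⊗[R] C₀) := isReduced_of_smooth Ω _
  haveI : IsReduced (C₀ ⊗[R] Ω) :=
    isReduced_of_injective (Algebra.TensorProduct.comm R C₀ Ω) (AlgEquiv.injective _)
  haveI : IsReduced (C ⊗[C₀] (C₀ ⊗[R] Ω)) :=
    isReduced_localizationPreserves (Algebra.algebraMapSubmonoid (C₀ ⊗[R] Ω) Q.primeCompl) _ inferInstance
  haveI : IsReduced (C ⊗[R] Ω) :=
    isReduced_of_injective (Algebra.TensorProduct.cancelBaseChange R C₀ C C Ω).symm (AlgEquiv.injective _)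
  haveI : IsReduced (Ω ⊗[R] C) :=
    isReduced_of_injective (Algebra.TensorProduct.comm R Ω C) (AlgEquiv.injective _)
  haveI := IsLocalization.tensorProduct_compatibleSMul p.primeCompl Rp Ω C
  exact isReduced_of_injective (Algebra.TensorProduct.equivOfCompatibleSMul R Rp Rp Ω C) (AlgEquiv.injective _)

/-- The normalisation in a finite separable extension is unramified at the image of a smooth algebra. -/
theorem isUnramifiedAt_comap (R K L B C₀ : Type u) [CommRing R] [IsDedekindDomain R] [Field K] [Algebra R K]
    [IsFractionRing R K] [Field L] [Algebra K L] [Algebra R L] [IsScalarTower R K L] [FiniteDimensional K L]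
    [Algebra.IsSeparable K L] [CommRing B] [IsDomain B] [Algebra R B] [Algebra B L] [IsScalarTower R B L]
    [IsIntegralClosure B R L] [CommRing C₀] [IsDomain C₀] [Algebra R C₀] [Algebra.Smooth R C₀]
    (ψ : B →ₐ[R] C₀) (hψ : Function.Injective ψ) (Q : Ideal C₀) [Q.IsPrime] :
    Algebra.IsUnramifiedAt R (Q.comap ψ) := by
  haveI : IsFractionRing B L := IsIntegralClosure.isFractionRing_of_finite_extension R K L B
  haveI : Module.Finite R B := IsIntegralClosure.finite R K L B
  haveI : IsDedekindDomain B := IsIntegralClosure.isDedekindDomain R K L B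
  haveI : FaithfulSMul R L := (faithfulSMul_iff_algebraMap_injective R L).2 (by
    rw [IsScalarTower.algebraMap_eq R K L]
    exact (algebraMap K L).injective.comp (IsFractionRing.injective R K))
  haveI : FaithfulSMul R B := (faithfulSMul_iff_algebraMap_injective R B).2 (by
    refine Function.Injective.of_comp (f := algebraMap B L) ?_
    rw [← RingHom.coe_comp, ← IsScalarTower.algebraMap_eq R B L]
    exact FaithfulSMul.algebraMap_injective R L)
  let P := Q.comap ψ
  let p := P.under R
  haveI : P.IsPrime := inferInstanceAs (Q.comap ψ).IsPrime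
  haveI : P.LiesOver p := ⟨rfl⟩
  show Algebra.FormallyUnramified R (Localization.AtPrime P)
  by_cases hp : p = ⊥
  · have hP : P = ⊥ := Ideal.eq_bot_of_comap_eq_bot (R := R) hp
    haveI : Algebra.FormallyUnramified R K := Algebra.FormallyUnramified.of_isLocalization (nonZeroDivisors R)
    haveI : Algebra.FormallyUnramified K L := Algebra.FormallyUnramified.of_isSeparable K L
    haveI : Algebra.FormallyUnramified R L := Algebra.FormallyUnramified.comp R K L
    have hM : P.primeCompl = nonZeroDivisors B := by
      ext x
      rw [Ideal.mem_primeCompl_iff, hP, Ideal.mem_bot, mem_nonZeroDivisors_iff_ne_zero]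
    haveI : IsLocalization P.primeCompl L := by rw [hM]; infer_instance
    exact Algebra.FormallyUnramified.of_equiv
      ((IsLocalization.algEquiv P.primeCompl L (Localization.AtPrime P)).restrictScalars R)
  · have hP : P ≠ ⊥ := fun h => hp (by
      show P.under R = ⊥
      rw [h]
      exact le_bot_iff.1 fun x hx => (FaithfulSMul.algebraMap_eq_zero_iff R B).1 (Ideal.mem_comap.1 hx))
    let Rp := Localization.AtPrime p
    let S := Localization.AtPrime P
    let C := Localization.AtPrime Q
    letI : Algebra Rp S := Localization.AtPrime.algebraOfLiesOver p P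
    haveI : IsScalarTower R Rp S := inferInstance
    haveI : IsLocalHom (algebraMap Rp S) := inferInstance
    letI : Algebra S C := (Localization.localRingHom P Q (ψ : B →+* C₀) rfl).toAlgebra
    haveI : IsLocalHom (algebraMap S C) := Localization.isLocalHom_localRingHom P Q (ψ : B →+* C₀) rfl
    letI : Algebra Rp C := ((algebraMap S C).comp (algebraMap Rp S)).toAlgebra
    haveI : IsScalarTower Rp S C := .of_algebraMap_eq' rfl
    haveI : IsScalarTower R Rp C := .of_algebraMap_eq fun r => by
      show _ = algebraMap S C (algebraMap Rp S (algebraMap R Rp r))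
      rw [← IsScalarTower.algebraMap_apply R Rp S, IsScalarTower.algebraMap_apply R B S]
      show _ = Localization.localRingHom P Q (ψ : B →+* C₀) rfl (algebraMap B S (algebraMap R B r))
      rw [Localization.localRingHom_to_map, AlgHom.coe_toRingHom, AlgHom.commutes,
        ← IsScalarTower.algebraMap_apply]
    haveI : IsDiscreteValuationRing S :=
      IsLocalization.AtPrime.isDiscreteValuationRing_of_dedekind_domain B hP S
    haveI : IsNoetherianRing C₀ := Algebra.FiniteType.isNoetherianRing R C₀
    have hinj : Function.Injective (algebraMap S C) := by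
      refine (injective_iff_map_eq_zero _).2 fun s hs => ?_
      obtain ⟨⟨b, t⟩, ht⟩ := IsLocalization.surj P.primeCompl s
      have h1 : algebraMap C₀ C (ψ b) = 0 := by
        have h2 := congrArg (algebraMap S C) ht
        rw [map_mul, hs, zero_mul] at h2
        rw [h2]
        exact (Localization.localRingHom_to_map P Q (ψ : B →+* C₀) rfl b).symm
      have h3 : b = 0 := hψ (by
        rw [map_zero]
        exact (map_eq_zero_iff _ (IsLocalization.injective C Q.primeCompl_le_nonZeroDivisors)).1 h1)
      rw [h3, map_zero] at ht
      exact ((IsLocalization.map_units S t).mul_left_eq_zero).1 ht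
    have hne : (maximalIdeal Rp).map (algebraMap Rp S) ≠ ⊥ := by
      rw [← Localization.AtPrime.map_eq_maximalIdeal, Ideal.map_map, ← IsScalarTower.algebraMap_eq,
        IsScalarTower.algebraMap_eq R B S, ← Ideal.map_map, Ne,
        Ideal.map_eq_bot_iff_of_injective (IsLocalization.injective S P.primeCompl_le_nonZeroDivisors),
        Ideal.map_eq_bot_iff_of_injective (FaithfulSMul.algebraMap_injective R B)]
      exact hp
    haveI : Algebra.EssFiniteType Rp S := Algebra.EssFiniteType.of_comp R Rp S
    haveI : Module.Finite (ResidueField Rp) (ResidueField S) :=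
      inferInstanceAs (Module.Finite p.ResidueField P.ResidueField)
    haveI : IsDomain C := inferInstance
    haveI : Algebra.FormallyUnramified Rp S :=
      formallyUnramified_of_dominated Rp S C hinj hne (isReduced_baseChange_atPrime R Rp _ C₀ p Q)
    haveI : Algebra.FormallyUnramified R Rp := Algebra.FormallyUnramified.of_isLocalization p.primeCompl
    exact Algebra.FormallyUnramified.comp R Rp S

/-- The normalisation in a finite étale algebra is étale at the image of a smooth domain. -/
theorem isEtaleAt_comap (R K A C₀ F : Type u) [CommRing R] [IsDedekindDomain R] [Field K] [Algebra R K]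
    [IsFractionRing R K] [CommRing A] [Algebra K A] [Algebra R A] [IsScalarTower R K A] [Algebra.Etale K A]
    [Module.Finite R (integralClosure R A)] [CommRing C₀] [IsDomain C₀] [Algebra R C₀] [Algebra.Smooth R C₀]
    [Field F] [Algebra C₀ F] [IsFractionRing C₀ F] [Algebra R F] [IsScalarTower R C₀ F]
    (φ : A →ₐ[R] F) (ψ : integralClosure R A →ₐ[R] C₀)
    (hφ : ∀ b : integralClosure R A, φ (b : A) = algebraMap C₀ F (ψ b)) (Q : Ideal C₀) [Q.IsPrime] :
    Algebra.IsEtaleAt R (Q.comap ψ) := by
  haveI : Module.Finite K A := Algebra.FormallyUnramified.finite_of_free K A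
  haveI : IsArtinianRing A := isArtinian_of_tower K inferInstance
  haveI : IsReduced A := Algebra.FormallyUnramified.isReduced_of_field K A
  haveI := IsArtinianRing.isSemisimpleRing_of_isReduced A
  let m := RingHom.ker (φ : A →+* F)
  haveI : m.IsPrime := RingHom.ker_isPrime _
  haveI : m.IsMaximal := IsArtinianRing.isMaximal_of_isPrime m
  letI := Ideal.Quotient.field m
  let L := A ⧸ m
  haveI : Module.Finite K L :=
    Module.Finite.of_surjective (Ideal.Quotient.mkₐ K m).toLinearMap Ideal.Quotient.mk_surjective
  haveI : Algebra.FormallyUnramified K L :=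
    Algebra.FormallyUnramified.of_surjective (Ideal.Quotient.mkₐ K m) Ideal.Quotient.mk_surjective
  haveI : Algebra.IsSeparable K L := Algebra.FormallyUnramified.isSeparable K L
  obtain ⟨e', he', hm⟩ := IsSemisimpleRing.ideal_eq_span_idempotent m
  let π : integralClosure R A →ₐ[R] integralClosure R L :=
    ((Ideal.Quotient.mkₐ R m).comp (integralClosure R A).val).codRestrict _ fun b => b.2.map (Ideal.Quotient.mkₐ R m)
  have hem : ∀ x ∈ m, (1 - e') * x = 0 := fun x hx => by
    obtain ⟨y, rfl⟩ := Ideal.mem_span_singleton'.1 (hm ▸ hx)
    linear_combination (-y) * he'.eq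
  have he0 : (Ideal.Quotient.mk m) e' = 0 :=
    Ideal.Quotient.eq_zero_iff_mem.2 (hm ▸ Ideal.mem_span_singleton_self e')
  have hid : (1 - e') * (1 - e') = 1 - e' := by linear_combination he'.eq
  have heint : IsIntegral R (1 - e') :=
    ⟨Polynomial.X ^ 2 - Polynomial.X, Polynomial.monic_X_pow_sub (by simp), by
      simp [pow_two, hid]⟩
  let e : integralClosure R A := ⟨1 - e', heint⟩
  have he : π e = 1 := Subtype.ext (by
    show Ideal.Quotient.mk m (1 - e') = 1
    rw [map_sub, map_one, he0, sub_zero])
  letI : Algebra (integralClosure R A) (integralClosure R L) := π.toRingHom.toAlgebra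
  haveI : IsScalarTower R (integralClosure R A) (integralClosure R L) :=
    .of_algebraMap_eq fun r => (π.commutes r).symm
  haveI : IsLocalization.Away e (integralClosure R L) := by
    refine IsLocalization.Away.mk e (by rw [RingHom.algebraMap_toAlgebra]; exact he ▸ isUnit_one) (fun l => ?_) ?_
    · obtain ⟨a, ha⟩ := Ideal.Quotient.mk_surjective (l : L)
      obtain ⟨q, hq, hql⟩ : IsIntegral R (l : L) := l.2
      have hq' : Polynomial.aeval a q ∈ m := by
        rw [← Ideal.Quotient.eq_zero_iff_mem, ← Ideal.Quotient.mkₐ_eq_mk R, ← Polynomial.aeval_algHom_apply,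
          Ideal.Quotient.mkₐ_eq_mk, ha]
        exact hql
      have hint : IsIntegral R ((1 - e') * a) := by
        refine ⟨Polynomial.X * q, Polynomial.monic_X.mul hq, ?_⟩
        have h1 : ∀ g : Polynomial R, (1 - e') * Polynomial.aeval ((1 - e') * a) g = (1 - e') * Polynomial.aeval a g := by
          intro g
          induction g using Polynomial.induction_on' with
          | add g h hg hh => rw [map_add, map_add, mul_add, mul_add, hg, hh]
          | monomial n r =>
            simp only [Polynomial.aeval_monomial, mul_pow]
            have hp : (1 - e') * (1 - e') ^ n = 1 - e' := by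
              induction n with
              | zero => simp
              | succ n ih => rw [pow_succ', ← mul_assoc, hid, ih]
            linear_combination (algebraMap R A r * a ^ n) * hp
        show Polynomial.aeval ((1 - e') * a) (Polynomial.X * q) = 0
        rw [map_mul, Polynomial.aeval_X, mul_comm (1 - e') a, mul_assoc, mul_comm a (1 - e'), h1,
          hem _ hq', mul_zero]
      refine ⟨0, ⟨(1 - e') * a, hint⟩, ?_⟩
      rw [pow_zero, mul_one]
      refine Subtype.ext ?_
      show (l : L) = Ideal.Quotient.mk m ((1 - e') * a)
      rw [map_mul, map_sub, map_one, he0, sub_zero, one_mul, ha]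
    · intro a b hab
      refine ⟨1, Subtype.ext ?_⟩
      have h1 : (a : A) - b ∈ m := Ideal.Quotient.eq.1 (congrArg Subtype.val hab)
      show (1 - e') ^ 1 * (a : A) = (1 - e') ^ 1 * (b : A)
      linear_combination hem _ h1
  have hker : ∀ a b, π a = π b → ψ a = ψ b := fun a b hab => by
    refine IsFractionRing.injective C₀ F ?_
    rw [← hφ, ← hφ, ← sub_eq_zero, ← map_sub]
    exact Ideal.Quotient.eq.1 (congrArg Subtype.val hab)
  have hψe : IsUnit (ψ e) := by
    have h : ψ e = ψ 1 := hker e 1 (by rw [he, map_one])
    rw [h, map_one]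
    exact isUnit_one
  let ψ' : integralClosure R L →ₐ[R] C₀ :=
    { IsLocalization.Away.lift e (g := (ψ : integralClosure R A →+* C₀)) hψe with
      commutes' := fun r => by
        show IsLocalization.Away.lift e hψe (algebraMap R (integralClosure R L) r) = _
        rw [IsScalarTower.algebraMap_apply R (integralClosure R A) (integralClosure R L),
          IsLocalization.Away.lift_eq]
        exact ψ.commutes r }
  have hψ' : ∀ b, ψ' (π b) = ψ b := fun b => IsLocalization.Away.lift_eq e hψe b
  have hinj : Function.Injective ψ' := by
    refine (injective_iff_map_eq_zero _).2 fun l hl => ?_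
    obtain ⟨n, b, hb⟩ := IsLocalization.Away.surj e l
    rw [RingHom.algebraMap_toAlgebra] at hb
    have hb' : l = π b := by
      have h : (π e) ^ n = 1 := by rw [he, one_pow]
      simpa [h] using (show l * (π e) ^ n = π b from hb)
    rw [hb'] at hl ⊢
    rw [hψ'] at hl
    have h1 : φ b = 0 := by rw [hφ, hl, map_zero]
    exact Subtype.ext (Ideal.Quotient.eq_zero_iff_mem.2 h1)
  haveI := isUnramifiedAt_comap R K L (integralClosure R L) C₀ ψ' hinj Q
  let P' := Q.comap ψ'
  have hP : P'.comap (algebraMap (integralClosure R A) (integralClosure R L)) = Q.comap ψ := by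
    ext b
    simp only [P', Ideal.mem_comap, RingHom.algebraMap_toAlgebra]
    show ψ' (π b) ∈ Q ↔ _
    rw [hψ']
  haveI : P'.IsPrime := inferInstanceAs (Q.comap ψ').IsPrime
  haveI : IsLocalization.AtPrime (Localization.AtPrime P') (Q.comap ψ) := by
    convert IsLocalization.isLocalization_isLocalization_atPrime_isLocalization (Submonoid.powers e)
      (Localization.AtPrime P') P' using 1
    rw [hP]
  haveI : Algebra.IsUnramifiedAt R (Q.comap ψ) :=
    Algebra.FormallyUnramified.of_equiv
      ((IsLocalization.algEquiv (Q.comap ψ).primeCompl (Localization.AtPrime P')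
        (Localization.AtPrime (Q.comap ψ))).restrictScalars R)
  haveI : Module.IsTorsionFree R A := .trans_faithfulSMul R K A
  haveI : Module.Flat R (integralClosure R A) := inferInstance
  haveI : Algebra.FinitePresentation R (integralClosure R A) := Algebra.FinitePresentation.of_finiteType.1 inferInstance
  exact Algebra.IsEtaleAt.of_isUnramifiedAt_of_flat _

/-- The normalisation in a finite étale algebra is finite. -/
theorem finite_integralClosure (R K A : Type u) [CommRing R] [IsDedekindDomain R] [Field K] [Algebra R K]
    [IsFractionRing R K] [CommRing A] [Algebra K A] [Algebra R A] [IsScalarTower R K A] [Algebra.Etale K A] :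
    Module.Finite R (integralClosure R A) := by
  haveI : Module.Finite K A := Algebra.FormallyUnramified.finite_of_free K A
  haveI : IsArtinianRing A := isArtinian_of_tower K inferInstance
  haveI : IsReduced A := Algebra.FormallyUnramified.isReduced_of_field K A
  haveI : Fintype (MaximalSpectrum A) := Fintype.ofFinite _
  haveI hfin : ∀ I : MaximalSpectrum A, Module.Finite R (integralClosure R (A ⧸ I.asIdeal)) := fun I => by
    letI := Ideal.Quotient.field I.asIdeal
    haveI : Module.Finite K (A ⧸ I.asIdeal) :=
      Module.Finite.of_surjective (Ideal.Quotient.mkₐ K I.asIdeal).toLinearMap Ideal.Quotient.mk_surjective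
    haveI : Algebra.FormallyUnramified K (A ⧸ I.asIdeal) :=
      Algebra.FormallyUnramified.of_surjective (Ideal.Quotient.mkₐ K I.asIdeal) Ideal.Quotient.mk_surjective
    haveI : Algebra.IsSeparable K (A ⧸ I.asIdeal) := Algebra.FormallyUnramified.isSeparable K _
    exact IsIntegralClosure.finite R K (A ⧸ I.asIdeal) _
  let f : integralClosure R A →ₐ[R] (∀ I : MaximalSpectrum A, integralClosure R (A ⧸ I.asIdeal)) :=
    Pi.algHom R _ fun I => ((Ideal.Quotient.mkₐ R I.asIdeal).comp (integralClosure R A).val).codRestrict _
      fun b => b.2.map (Ideal.Quotient.mkₐ R I.asIdeal)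
  haveI : IsNoetherian R (∀ I : MaximalSpectrum A, integralClosure R (A ⧸ I.asIdeal)) := isNoetherian_of_isNoetherianRing_of_finite R _
  refine Module.Finite.of_injective f.toLinearMap fun a b hab => Subtype.ext ?_
  refine (IsArtinianRing.equivPi A).injective (funext fun I => ?_)
  exact congrArg Subtype.val (congrFun hab I)

end Groth.Agent.NeronEtLib
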