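import Groth.Agent.GrpExtLib.Dedekind

/-!
# Gluing extensions from generic fibres of smooth schemes
-/

set_option autoImplicit false
set_option backward.isDefEq.respectTransparency false
set_option backward.isDefEq.respectTransparency.types false
set_option linter.style.haveILetI false
set_option maxHeartbeats 1000000

universe u

open CategoryTheory CategoryTheory.Limits AlgebraicGeometry TopologicalSpace

noncomputable section

namespace Groth.Agent.NeronEtLib

variable {R : Type u} [CommRing R] [IsDedekindDomain R] (K : Type u) [Field K] [Algebra R K] [IsFractionRing R K]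

/-- Extension from the generic fibre can be checked on integral affine smooth schemes. -/
theorem existsUnique_extension_of_affine {N : Scheme.{u}} (pN : N ⟶ Spec (CommRingCat.of R)) [IsSeparated pN]
    (H : ∀ (W : Scheme.{u}) [IsAffine W] [IsIntegral W] (pW : W ⟶ Spec (CommRingCat.of R)) [Smooth pW]
      (v : pullback pW (Spec.map (CommRingCat.ofHom (algebraMap R K))) ⟶ N),
      v ≫ pN = pullback.fst _ _ ≫ pW → ∃ g : W ⟶ N, g ≫ pN = pW ∧ pullback.fst _ _ ≫ g = v)
    {Y : Scheme.{u}} (pY : Y ⟶ Spec (CommRingCat.of R)) [Smooth pY]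
    (u : pullback pY (Spec.map (CommRingCat.ofHom (algebraMap R K))) ⟶ N)
    (hu : u ≫ pN = pullback.fst _ _ ≫ pY) :
    ∃! g : Y ⟶ N, g ≫ pN = pY ∧ pullback.fst _ _ ≫ g = u := by
  let g₀ := Spec.map (CommRingCat.ofHom (algebraMap R K))
  haveI : IsLocallyNoetherian Y := LocallyOfFiniteType.isLocallyNoetherian pY
  haveI : IsRegularRing R := inferInstance
  have hloc : ∀ y : Y, ∃ W : Y.Opens, y ∈ W ∧ IsAffineOpen W ∧ IsIntegral (W : Scheme.{u}) := by
    intro y
    haveI := S11107.isRegularLocalRing_stalk pY y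
    haveI : IsDomain (Y.presheaf.stalk y) := RegLocal.isDomain _
    obtain ⟨W₀, hy, hW₀⟩ := AffLim.exists_isIntegral_nhd (X := Y) y
    obtain ⟨W, hW, hyW, hle⟩ := exists_isAffineOpen_mem_and_subset (x := y) (U := W₀) hy
    haveI : Nonempty (W : Scheme.{u}) := ⟨⟨y, hyW⟩⟩
    exact ⟨W, hyW, hW, isIntegral_of_isOpenImmersion (Y.homOfLE hle)⟩
  choose W hyW hWa hWi using hloc
  have hext : ∀ y, ∃ g : (W y : Scheme.{u}) ⟶ N, g ≫ pN = (W y).ι ≫ pY ∧
      pullback.fst ((W y).ι ≫ pY) g₀ ≫ g =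
        pullback.map _ _ _ _ (W y).ι (𝟙 _) (𝟙 _) (by simp) (by simp [g₀]) ≫ u := fun y => by
    haveI := hWi y
    haveI : IsAffine (W y : Scheme.{u}) := hWa y
    exact H _ ((W y).ι ≫ pY) _ (by rw [Category.assoc, hu, pullback.lift_fst_assoc, Category.assoc])
  choose g hg hgu using hext
  let 𝒰 := Y.openCoverOfIsOpenCover W (eq_top_iff.2 fun t _ => Opens.mem_iSup.2 ⟨t, hyW t⟩)
  have hglue : ∀ i j, pullback.fst (𝒰.f i) (𝒰.f j) ≫ g i = pullback.snd (𝒰.f i) (𝒰.f j) ≫ g j := by
    intro i j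
    let pZ : pullback (W i).ι (W j).ι ⟶ Spec (CommRingCat.of R) := pullback.fst (W i).ι (W j).ι ≫ (W i).ι ≫ pY
    have h2 : pullback.snd (W i).ι (W j).ι ≫ (W j).ι ≫ pY = pZ := by
      show _ = _ ≫ _
      rw [pullback.condition_assoc]
    refine GrpExtLib.hom_ext_generic K pZ pN (pullback.fst (W i).ι (W j).ι ≫ g i) (pullback.snd (W i).ι (W j).ι ≫ g j)
      (by rw [Category.assoc, hg]) (by rw [Category.assoc, hg, h2]) ?_
    let a : pullback pZ g₀ ⟶ pullback ((W i).ι ≫ pY) g₀ :=
      pullback.lift (pullback.fst _ _ ≫ pullback.fst (W i).ι (W j).ι) (pullback.snd _ _)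
        (by rw [Category.assoc]; exact pullback.condition)
    let b : pullback pZ g₀ ⟶ pullback ((W j).ι ≫ pY) g₀ :=
      pullback.lift (pullback.fst _ _ ≫ pullback.snd (W i).ι (W j).ι) (pullback.snd _ _)
        (by rw [Category.assoc, h2]; exact pullback.condition)
    have ha : a ≫ pullback.fst _ _ = pullback.fst _ _ ≫ pullback.fst (W i).ι (W j).ι := pullback.lift_fst _ _ _
    have hb : b ≫ pullback.fst _ _ = pullback.fst _ _ ≫ pullback.snd (W i).ι (W j).ι := pullback.lift_fst _ _ _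
    rw [← reassoc_of% ha, ← reassoc_of% hb, hgu, hgu, ← Category.assoc, ← Category.assoc]
    congr 1
    apply pullback.hom_ext <;> simp [a, b, pullback.condition]
  have hG : ∀ i, 𝒰.f i ≫ 𝒰.glueMorphisms g hglue = g i := fun i => 𝒰.ι_glueMorphisms g hglue i
  have hw : 𝒰.glueMorphisms g hglue ≫ pN = pY := 𝒰.hom_ext _ _ fun i => by
    rw [← Category.assoc, hG]; exact hg i
  have hGu : pullback.fst pY g₀ ≫ 𝒰.glueMorphisms g hglue = u := by
    refine Scheme.Cover.hom_ext (𝒰.pullback₁ (pullback.fst pY g₀)) _ _ fun i => ?_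
    let q : pullback (pullback.fst pY g₀) (W i).ι ⟶ pullback ((W i).ι ≫ pY) g₀ :=
      pullback.lift (pullback.snd _ _) (pullback.fst _ _ ≫ pullback.snd _ _) (by
        rw [← pullback.condition_assoc, Category.assoc, pullback.condition])
    have hq : q ≫ pullback.map _ _ _ _ (W i).ι (𝟙 _) (𝟙 _) (by simp) (by simp) =
        pullback.fst (pullback.fst pY g₀) (W i).ι := by
      apply pullback.hom_ext <;> simp [q, pullback.condition]
    show pullback.fst (pullback.fst pY g₀) (W i).ι ≫ _ = pullback.fst (pullback.fst pY g₀) (W i).ι ≫ u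
    rw [← reassoc_of% hq, ← reassoc_of% hq, ← hgu, pullback.lift_fst_assoc, Category.assoc]
    exact congrArg (fun m => q ≫ pullback.fst _ _ ≫ m) (hG i)
  exact ⟨𝒰.glueMorphisms g hglue, ⟨hw, hGu⟩, fun g' hg' =>
    GrpExtLib.hom_ext_generic K pY pN g' _ hg'.1 hw (hg'.2.trans hGu.symm)⟩

end Groth.Agent.NeronEtLib
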