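import Groth.Agent.NeronEtLib.Alg
import Groth.Agent.NeronEtLib.Glue

/-!
# Étale Néron models of finite étale algebras
-/

set_option autoImplicit false
set_option backward.isDefEq.respectTransparency false
set_option backward.isDefEq.respectTransparency.types false
set_option linter.style.haveILetI false
set_option maxHeartbeats 1000000

universe u

open CategoryTheory CategoryTheory.Limits AlgebraicGeometry TopologicalSpace TensorProduct

noncomputable section

namespace Groth.Agent.NeronEtLib

theorem etale_ι_comp (R B : Type u) [CommRing R] [CommRing B] [Algebra R B] [Algebra.FinitePresentation R B]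
    (U : (Spec (CommRingCat.of B)).Opens) (hU : (U.carrier : Set (PrimeSpectrum B)) ⊆ Algebra.etaleLocus R B) :
    Etale (U.ι ≫ Spec.map (CommRingCat.ofHom (algebraMap R B))) := by
  have h : ∀ x : U.toScheme, ∃ f : B, x ∈ U.ι ⁻¹ᵁ PrimeSpectrum.basicOpen f ∧
      Algebra.Etale R (Localization.Away f) := by
    intro x
    obtain ⟨_, ⟨f, rfl⟩, hxf, hf⟩ :=
      PrimeSpectrum.isTopologicalBasis_basic_opens.exists_subset_of_mem_open x.2 U.2
    exact ⟨f, hxf, Algebra.basicOpen_subset_etaleLocus_iff_etale.1 (hf.trans hU)⟩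
  choose f hxf hf using h
  refine IsZariskiLocalAtSource.of_iSup_eq_top (P := @Etale) (fun x => U.ι ⁻¹ᵁ PrimeSpectrum.basicOpen (f x))
    (top_le_iff.1 fun x _ => Opens.mem_iSup.2 ⟨x, hxf x⟩) fun x => ?_
  rw [← Category.assoc, ← morphismRestrict_ι, Category.assoc]
  refine IsZariskiLocalAtSource.comp (P := @Etale) ?_ _
  rw [← basicOpenIsoSpecAway_hom_SpecMap (R := CommRingCat.of B) (f x), Category.assoc, ← Spec.map_comp,
    MorphismProperty.cancel_left_of_respectsIso @Etale, ← CommRingCat.ofHom_comp,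
    ← IsScalarTower.algebraMap_eq]
  exact HasRingHomProperty.Spec_iff.mpr (RingHom.etale_algebraMap.mpr (hf x))

/-- A finite étale algebra over the fraction field of a Dedekind ring has a quasi-finite étale Néron model. -/
theorem exists_model (R K A : Type u) [CommRing R] [IsDedekindDomain R] [Field K] [Algebra R K]
    [IsFractionRing R K] [CommRing A] [Algebra K A] [Algebra R A] [IsScalarTower R K A] [Algebra.Etale K A] :
    ∃ (N : Scheme.{u}) (pN : N ⟶ Spec (CommRingCat.of R)) (j : Spec (CommRingCat.of A) ⟶ N),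
      Etale pN ∧ IsSeparated pN ∧ QuasiCompact pN ∧ LocallyQuasiFinite pN ∧
      IsPullback j (Spec.map (CommRingCat.ofHom (algebraMap K A))) pN
        (Spec.map (CommRingCat.ofHom (algebraMap R K))) ∧
      ∀ {Y : Scheme.{u}} (pY : Y ⟶ Spec (CommRingCat.of R)) [Smooth pY]
        (u : pullback pY (Spec.map (CommRingCat.ofHom (algebraMap R K))) ⟶ N),
        u ≫ pN = pullback.fst _ _ ≫ pY → ∃! g : Y ⟶ N, g ≫ pN = pY ∧ pullback.fst _ _ ≫ g = u := by
  let B := integralClosure R A
  haveI : Module.Finite R B := finite_integralClosure R K A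
  haveI : Algebra.FinitePresentation R B := Algebra.FinitePresentation.of_finiteType.1 inferInstance
  haveI : Module.Finite K A := Algebra.FormallyUnramified.finite_of_free K A
  have hloc : IsLocalization (Algebra.algebraMapSubmonoid B (nonZeroDivisors R)) A := by
    refine ⟨?_, ?_, ?_⟩
    · rintro ⟨_, r, hr, rfl⟩
      show IsUnit (algebraMap B A (algebraMap R B r))
      rw [← IsScalarTower.algebraMap_apply R B A, IsScalarTower.algebraMap_apply R K A]
      exact (IsLocalization.map_units K ⟨r, hr⟩).map _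
    · intro a
      obtain ⟨⟨r, hr⟩, hra⟩ := IsIntegral.exists_multiple_integral_of_isLocalization (nonZeroDivisors R) (Rₘ := K) a
        (Algebra.IsIntegral.isIntegral a)
      refine ⟨⟨⟨r • a, hra⟩, ⟨algebraMap R B r, r, hr, rfl⟩⟩, ?_⟩
      show a * algebraMap R A r = r • a
      rw [Algebra.smul_def, mul_comm]
    · intro x y h
      exact ⟨1, by rw [Subtype.ext (h : (x : A) = y)]⟩
  let U : (Spec (CommRingCat.of B)).Opens := ⟨Algebra.etaleLocus R B, Algebra.isOpen_etaleLocus⟩
  let s := Spec.map (CommRingCat.ofHom (algebraMap R B))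
  let g₀ := Spec.map (CommRingCat.ofHom (algebraMap R K))
  let sK := Spec.map (CommRingCat.ofHom (algebraMap K A))
  let sA := Spec.map (CommRingCat.ofHom (algebraMap B A))
  haveI : IsFinite s := (IsFinite.SpecMap_iff _).2 (RingHom.finite_algebraMap.2 inferInstance)
  haveI hEt : Etale (U.ι ≫ s) := etale_ι_comp R B U subset_rfl
  have hpb : IsPullback sA sK s g₀ := by
    refine isPullback_SpecMap_of_isPushout _ _ _ _ ?_
    haveI : Algebra.IsPushout R B K A := Algebra.isPushout_of_isLocalization (nonZeroDivisors R) K B A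
    exact CommRingCat.isPushout_iff_isPushout.mpr inferInstance
  have hrange : Set.range sA ⊆ Set.range U.ι := by
    rintro _ ⟨q, rfl⟩
    rw [Scheme.Opens.range_ι]
    let P := (q : PrimeSpectrum A).asIdeal.comap (algebraMap B A)
    haveI : IsLocalization.AtPrime (Localization.AtPrime (q : PrimeSpectrum A).asIdeal) P :=
      IsLocalization.isLocalization_isLocalization_atPrime_isLocalization
        (Algebra.algebraMapSubmonoid B (nonZeroDivisors R)) _ _
    show Algebra.IsEtaleAt R P
    haveI : Algebra.FormallyEtale R K := Algebra.FormallyEtale.of_isLocalization (nonZeroDivisors R)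
    haveI : Algebra.FormallyEtale R A := Algebra.FormallyEtale.comp R K A
    haveI : Algebra.FormallyEtale A (Localization.AtPrime (q : PrimeSpectrum A).asIdeal) :=
      Algebra.FormallyEtale.of_isLocalization (q : PrimeSpectrum A).asIdeal.primeCompl
    haveI : Algebra.FormallyEtale R (Localization.AtPrime (q : PrimeSpectrum A).asIdeal) :=
      Algebra.FormallyEtale.comp R A _
    exact Algebra.FormallyEtale.of_equiv
      ((IsLocalization.algEquiv P.primeCompl (Localization.AtPrime (q : PrimeSpectrum A).asIdeal)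
        (Localization.AtPrime P)).restrictScalars R)
  let j := IsOpenImmersion.lift U.ι sA hrange
  have hj : j ≫ U.ι = sA := IsOpenImmersion.lift_fac U.ι sA hrange
  have hpbN : IsPullback j sK (U.ι ≫ s) g₀ := by
    refine ⟨⟨by rw [← Category.assoc, hj]; exact hpb.w⟩, ⟨PullbackCone.IsLimit.mk _
      (fun c => hpb.lift (c.fst ≫ U.ι) c.snd (by rw [Category.assoc]; exact c.condition))
      (fun c => ?_) (fun c => ?_) (fun c m h₁ h₂ => ?_)⟩⟩
    · rw [← cancel_mono U.ι, Category.assoc, hj, hpb.lift_fst]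
    · rw [hpb.lift_snd]
    · refine hpb.hom_ext ?_ ?_
      · rw [hpb.lift_fst, ← hj, ← Category.assoc, h₁]
      · rw [hpb.lift_snd, h₂]
  haveI : QuasiCompact (U.ι ≫ s) := by
    haveI : IsNoetherianRing B := Algebra.FiniteType.isNoetherianRing R B
    haveI : QuasiCompact U.ι := inferInstance
    infer_instance
  refine ⟨U.toScheme, U.ι ≫ s, j, hEt, inferInstance, inferInstance, inferInstance, hpbN, fun {Y} pY _ u hu => ?_⟩
  refine existsUnique_extension_of_affine K (U.ι ≫ s) (fun W _ _ pW _ v hv => ?_) pY u hu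
  let C₀ := Γ(W, ⊤)
  let ρ := Spec.preimage (W.isoSpec.inv ≫ pW)
  letI : Algebra R C₀ := ρ.hom.toAlgebra
  let sC := Spec.map (CommRingCat.ofHom (algebraMap R C₀))
  have hsC : W.isoSpec.hom ≫ sC = pW := by
    show W.isoSpec.hom ≫ Spec.map ρ = pW
    rw [Spec.map_preimage, Iso.hom_inv_id_assoc]
  haveI : IsDomain C₀ := inferInstance
  haveI : Smooth sC := by
    rw [show sC = W.isoSpec.inv ≫ pW by rw [← hsC, Iso.inv_hom_id_assoc]]
    infer_instance
  haveI : Algebra.Smooth R C₀ := RingHom.smooth_algebraMap.mp (HasRingHomProperty.Spec_iff.mp ‹Smooth sC›)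
  haveI : IsIntegrallyClosed C₀ := isIntegrallyClosed_of_smooth R C₀
  haveI : Module.IsTorsionFree R C₀ := inferInstance
  haveI : FaithfulSMul R C₀ := inferInstance
  let F := FractionRing C₀
  let CK := C₀ ⊗[R] K
  let M := Algebra.algebraMapSubmonoid C₀ (nonZeroDivisors R)
  haveI : IsLocalization M CK := inferInstance
  have hM : ∀ y : M, IsUnit (algebraMap C₀ F y) := by
    rintro ⟨_, r, hr, rfl⟩
    refine IsUnit.mk0 _ ((map_ne_zero_iff _ (IsFractionRing.injective C₀ F)).2 ?_)
    exact (map_ne_zero_iff _ (FaithfulSMul.algebraMap_injective R C₀)).2 (nonZeroDivisors.ne_zero hr)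
  let κ : CK →+* F := IsLocalization.lift hM
  have hκ : Function.Injective κ := by
    refine (IsLocalization.lift_injective_iff hM).2 fun x y => ⟨fun h => ?_, fun h => ?_⟩
    · obtain ⟨⟨_, r, hr, rfl⟩, hm⟩ := IsLocalization.exists_of_eq (M := M) h
      rw [mul_left_cancel₀ ((map_ne_zero_iff _ (FaithfulSMul.algebraMap_injective R C₀)).2
        (nonZeroDivisors.ne_zero hr)) hm]
    · rw [IsFractionRing.injective C₀ F h]
  let q : Spec (CommRingCat.of CK) ⟶ pullback pW g₀ :=
    (pullbackSpecIso R C₀ K).inv ≫ pullback.map _ _ _ _ W.isoSpec.inv (𝟙 _) (𝟙 _)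
      (by rw [Category.comp_id, ← hsC, Iso.inv_hom_id_assoc]) (by simp [g₀])
  have hq : q ≫ pullback.fst pW g₀ =
      Spec.map (CommRingCat.ofHom (algebraMap C₀ CK)) ≫ W.isoSpec.inv := by
    rw [Category.assoc, pullback.lift_fst, pullbackSpecIso_inv_fst'_assoc]
  haveI : IsIso q := inferInstance
  clear_value q
  let χ := Spec.preimage (q ≫ v ≫ U.ι)
  have hχ : Spec.map χ = q ≫ v ≫ U.ι := Spec.map_preimage _
  have hχR : ∀ r, χ.hom (algebraMap R B r) = algebraMap R CK r := by
    have h : CommRingCat.ofHom (algebraMap R B) ≫ χ = CommRingCat.ofHom (algebraMap R C₀) ≫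
        CommRingCat.ofHom (algebraMap C₀ CK) := by
      refine Spec.map_injective ?_
      rw [Spec.map_comp, Spec.map_comp, hχ]
      simp only [Category.assoc]
      rw [hv, reassoc_of% hq, ← hsC,
        Iso.inv_hom_id_assoc]
    intro r
    rw [IsScalarTower.algebraMap_apply R C₀ CK]
    exact congrArg (fun m => m.hom r) h
  let φ₀ : B →ₐ[R] F :=
    { κ.comp χ.hom with
      commutes' := fun r => by
        show κ (χ.hom (algebraMap R B r)) = _
        rw [hχR, IsScalarTower.algebraMap_apply R C₀ CK, IsLocalization.lift_eq,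
          ← IsScalarTower.algebraMap_apply] }
  let φ : A →ₐ[R] F := IsLocalization.liftAlgHom (M := Algebra.algebraMapSubmonoid B (nonZeroDivisors R))
    (f := φ₀) (by
      rintro ⟨_, r, hr, rfl⟩
      show IsUnit (φ₀ (algebraMap R B r))
      rw [AlgHom.commutes, IsScalarTower.algebraMap_apply R C₀ F]
      exact hM ⟨_, r, hr, rfl⟩)
  have hφ₀ : ∀ b : B, φ (b : A) = φ₀ b := fun b => IsLocalization.lift_eq _ b
  have hint : ∀ b : B, ∃ c : C₀, algebraMap C₀ F c = φ₀ b := fun b =>
    IsIntegrallyClosed.isIntegral_iff.1 ((IsIntegral.map φ₀ (Algebra.IsIntegral.isIntegral (R := R) b)).tower_top (A := C₀))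
  choose ψ₀ hψ₀ using hint
  have hinjF := IsFractionRing.injective C₀ F
  let ψ : B →ₐ[R] C₀ :=
    { toFun := ψ₀
      map_one' := hinjF (by rw [hψ₀, map_one, map_one])
      map_mul' := fun x y => hinjF (by rw [map_mul, hψ₀, hψ₀, hψ₀, map_mul])
      map_zero' := hinjF (by rw [hψ₀, map_zero, map_zero])
      map_add' := fun x y => hinjF (by rw [map_add, hψ₀, hψ₀, hψ₀, map_add])
      commutes' := fun r => hinjF (by rw [hψ₀, AlgHom.commutes, ← IsScalarTower.algebraMap_apply]) }
  let sψ := Spec.map (CommRingCat.ofHom (ψ : B →+* C₀))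
  have hrψ : Set.range sψ ⊆ Set.range U.ι := by
    rintro _ ⟨Q, rfl⟩
    rw [Scheme.Opens.range_ι]
    exact isEtaleAt_comap R K A C₀ F φ ψ (fun b => (hφ₀ b).trans (hψ₀ b).symm) (Q : PrimeSpectrum C₀).asIdeal
  refine ⟨W.isoSpec.hom ≫ IsOpenImmersion.lift U.ι sψ hrψ, ?_, ?_⟩
  · rw [Category.assoc, IsOpenImmersion.lift_fac_assoc, ← hsC, ← Spec.map_comp]
    congr 2
    ext r
    exact ψ.commutes r
  · rw [← cancel_mono U.ι, ← cancel_epi q, ← hχ, Category.assoc, Category.assoc, IsOpenImmersion.lift_fac,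
      reassoc_of% hq, Iso.inv_hom_id_assoc, ← Spec.map_comp]
    congr 1
    ext b
    refine hκ ?_
    show κ (algebraMap C₀ CK (ψ b)) = φ₀ b
    rw [IsLocalization.lift_eq]
    exact hψ₀ b

end Groth.Agent.NeronEtLib
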